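import Cfsg.Agent.H0.ECo2Z.D
import Cfsg.Agent.H0.MS62.Main
set_option maxRecDepth 100000
set_option Elab.async false
set_option linter.unusedSectionVars false
namespace H0.ECo2Z
open H0 BN 
theorem defs_ok : DefsOK R.p defs 18 := defsOK_of_chk c58
universe u
variable {G : Type u} [Group G] [Finite G] (m0 : Model G) (h0 : m0.R = H6M.MCo2.R)
noncomputable def m : Model G := m0.ext (lg := nat_lit 12) (N := nat_lit 4096) (l := H6M.MCo2.nl) h0 nl nl_ok 18 rfl defs defs_ok (by decide +kernel)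
theorem mR : (m m0 h0).R = R := rfl
variable (hb : m0.pst [1625, 1409, 570, 569, 1, 0] = ⊥) (hc : Nat.card G = 42305421312000)
include h0 hb hc
theorem base : (m m0 h0).pst [1625, 1409, 570, 569, 1, 0] = ⊥ := hb
omit hb hc in
theorem geq {x : ℕ} (h : x < 18) : (m m0 h0).g x = m0.g x := m0.ext_g h0 _ _ _ _ _ _ _ h
theorem K_iso : Nonempty (PG 15 H0.MS62.B ≃* gen (m m0 h0).g ((lets 15).map (sh 18))) :=
  iso_emb _ 18 (all_take_done (all_take_step (all_take_zero _ ((H0.MS62.B.map (sh 18)).map fun r => (r, ([] : List ℕ)))) ((m m0 h0).pairs_of (base m0 h0 hb hc) (Model.via _ (mR m0 h0) (fun R => pairsB R [1625, 1409, 570, 569, 1, 0] ((((H0.MS62.B.map (sh 18)).map fun r => (r, ([] : List ℕ))).drop 0).take 78)) c0))) (by decide +kernel)) (H0.MS62.simple (Pres.pg _ _)) ((m m0 h0).ne_of_neB (Model.via _ (mR m0 h0) (fun R => neB R [18] [] 0 1482 0) c1)) (by decide +kernel)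
omit hb hc in
theorem qch_ok : (m m0 h0).ChainOK qch [] := ((m m0 h0).chain_cons [0, 1, 2, 3, 4] (Model.via _ (mR m0 h0) (fun R => Model.fixP R [] [[33], [34], [35], [38], [41]]) c4) (Model.via _ (mR m0 h0) (fun R => Model.growP R [[33], [34], [35], [38], [41]] [0, 1, 2, 3, 4] 0 32) c5) ((m m0 h0).chain_cons [0, 1, 2, 3] (Model.via _ (mR m0 h0) (fun R => Model.fixP R [0] [[33, 35, 36, 41], [34, 35, 36, 38, 39, 41], [37, 38, 39, 41], [40, 41]]) c2) (Model.via _ (mR m0 h0) (fun R => Model.growP R [[33, 35, 36, 41], [34, 35, 36, 38, 39, 41], [37, 38, 39, 41], [40, 41]] [0, 1, 2, 3] 1 16) c3) ((m m0 h0).chain_nil _)))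
theorem qE : ∀ e ∈ pcE 2 [33, 34, 35, 36, 37, 38, 39, 40, 41] qW, ev (m m0 h0).g e.1 = ev (m m0 h0).g e.2 := (all_take_done (all_take_step (all_take_zero _ (pcE 2 [33, 34, 35, 36, 37, 38, 39, 40, 41] qW)) ((m m0 h0).pairs_of (base m0 h0 hb hc) (Model.via _ (mR m0 h0) (fun R => pairsB R [1625, 1409, 570, 569, 1, 0] (((pcE 2 [33, 34, 35, 36, 37, 38, 39, 40, 41] qW).drop 0).take 45)) c6))) (by decide +kernel))
omit hb hc in
theorem qlow : 2 ^ [33, 34, 35, 36, 37, 38, 39, 40, 41].length ≤ Nat.card (gl (m m0 h0).g [33, 34, 35, 36, 37, 38, 39, 40, 41]) :=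
  (by decide +kernel : _ ≤ Model.cprod qch).trans ((m m0 h0).chain_card (qch_ok m0 h0) (gen_le fun w hw => mem_gl _ (List.all_eq_true.1 (by decide +kernel : (Model.cgens qch).all (·.all [33, 34, 35, 36, 37, 38, 39, 40, 41].contains) = true) w hw)))
omit hb hc in
theorem zch_ok : (m m0 h0).ChainOK zch [] := ((m m0 h0).chain_cons [0, 1, 0, 1, 0, 1, 0, 1, 0, 1, 0, 1, 0, 1, 0, 1, 0, 1, 0, 1] (Model.via _ (mR m0 h0) (fun R => Model.fixP R [] [[42], [43]]) c17) (Model.via _ (mR m0 h0) (fun R => Model.growP R [[42], [43]] [0, 1, 0, 1, 0, 1, 0, 1, 0, 1, 0, 1, 0, 1, 0, 1, 0, 1, 0, 1] 723 2300) c18) ((m m0 h0).chain_cons [0, 1, 0, 1, 0, 1, 0, 1, 0, 1, 0, 1, 0, 1, 0, 1, 0] (Model.via _ (mR m0 h0) (fun R => Model.fixP R [723] [[44], [45]]) c15) (Model.via _ (mR m0 h0) (fun R => Model.growP R [[44], [45]] [0, 1, 0, 1, 0, 1, 0, 1, 0, 1, 0, 1, 0, 1, 0, 1, 0] 1711 891) c16) ((m m0 h0).chain_cons [0,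 1, 0, 1, 0, 1, 0, 1, 0, 1, 0, 1, 0, 1, 1, 0, 0] (Model.via _ (mR m0 h0) (fun R => Model.fixP R [1711, 723] [[46], [47]]) c13) (Model.via _ (mR m0 h0) (fun R => Model.growP R [[46], [47]] [0, 1, 0, 1, 0, 1, 0, 1, 0, 1, 0, 1, 0, 1, 1, 0, 0] 1713 512) c14) ((m m0 h0).chain_cons [0, 1, 0, 1, 0, 1, 0, 1, 0, 1, 0, 1, 0, 1, 0] (Model.via _ (mR m0 h0) (fun R => Model.fixP R [1713, 1711, 723] [[48], [49]]) c11) (Model.via _ (mR m0 h0) (fun R => Model.growP R [[48], [49]] [0, 1, 0, 1, 0, 1, 0, 1, 0, 1, 0, 1, 0, 1, 0] 1937 336) c12) ((m m0 h0).chain_cons [0, 1, 0, 1, 0, 0, 1, 0, 0, 0, 1] (Model.via _ (mR m0 h0) (fun R => Model.fixP R [1937, 1713, 1711, 723] [[50], [51]]) c9) (Model.via _ (mR m0 h0) (fun R => Model.growP R [[50], [51]] [0, 1, 0, 1, 0, 0, 1, 0, 0, 0, 1] 520 60) c10) ((m m0 h0).chain_cons [0] (Model.via _ (mR m0 h0) (fun R => Model.fixP R [520, 1937, 1713, 1711, 723] [[52]]) c7)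 (Model.via _ (mR m0 h0) (fun R => Model.growP R [[52]] [0] 1315 2) c8) ((m m0 h0).chain_nil _)))))))
theorem ztop : gen (m m0 h0).g (Model.cgens zch) = ⊤ := (m m0 h0).chain_top (zch_ok m0 h0) (hc.trans (by decide +kernel))
theorem zbdd : (m m0 h0).Bdd := (m m0 h0).bdd_of_top (ztop m0 h0 hb hc)
theorem zot : (m m0 h0).OTOK zOT := ((m m0 h0).otok_cons (zch_ok m0 h0) (hc.trans (by decide +kernel)) 5 rfl (Model.via _ (mR m0 h0) (fun R => Model.invB R (Model.cgens (zch.drop 5)) zO0) c51) ((m m0 h0).otok_cons (zch_ok m0 h0) (hc.trans (by decide +kernel)) 4 rfl (Model.via _ (mR m0 h0) (fun R => Model.invB R (Model.cgens (zch.drop 4)) zO1) c50) ((m m0 h0).otok_cons (zch_ok m0 h0) (hc.trans (by decide +kernel)) 3 rfl (Model.via _ (mR m0 h0) (fun R => Model.invB R (Model.cgens (zch.drop 3)) zO2) c49) ((m m0 h0).otok_cons (zch_ok m0 h0) (hc.trans (by decide +kernel)) 2 rfl (Model.via _ (mR m0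 h0) (fun R => Model.invB R (Model.cgens (zch.drop 2)) zO3) c48) ((m m0 h0).otok_cons (zch_ok m0 h0) (hc.trans (by decide +kernel)) 1 rfl (Model.via _ (mR m0 h0) (fun R => Model.invB R (Model.cgens (zch.drop 1)) zO4) c47) ((m m0 h0).otok_cons (zch_ok m0 h0) (hc.trans (by decide +kernel)) 0 rfl (Model.via _ (mR m0 h0) (fun R => Model.invB R (Model.cgens (zch.drop 0)) zO5) c46) (m m0 h0).otok_nil))))))
theorem zcm : ∀ w ∈ zCg, (m m0 h0).Cm [[41]] (ev (m m0 h0).g w) := (m m0 h0).cm_of_pairs (all_take_done (all_take_step (all_take_zero _ (zCg.flatMap fun w => [[41]].map fun y => (w ++ y, y ++ w))) ((m m0 h0).pairs_of (base m0 h0 hb hc) (Model.via _ (mR m0 h0) (fun R => pairsB R [1625, 1409, 570, 569, 1, 0] (((zCg.flatMap fun w => [[41]].map fun y => (w ++ y, y ++ w)).drop 0).take 19)) c52))) (by decide +kernel))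
theorem zn6 : (m m0 h0).Sol [[41]] zCg [1315, 520, 1937, 1713, 1711, 723] [1315, 520, 1937, 1713, 1711, 723] := (m m0 h0).sol_done [0, 1, 2, 3, 4, 5] (((m m0 h0).chain_bot (zch_ok m0 h0) (hc.trans (by decide +kernel))).le.trans bot_le) (by decide +kernel)
theorem zn5 : (m m0 h0).Sol [[41]] zCg [520, 1937, 1713, 1711, 723] [520, 1937, 1713, 1711, 723] := (m m0 h0).sol_free (zbdd m0 h0 hb hc) (zcm m0 h0 hb hc) (zot m0 h0 hb hc) ((m m0 h0).excl_zero _ _) (Model.via _ (mR m0 h0) (fun R => freeB R zOT [[41]] zCg [0, 1, 2, 3, 4] [520, 1937, 1713, 1711, 723] [520, 1937, 1713, 1711, 723] [] 1315 0 [([], 1315, 0)] [[11], [13]] [0] zc26) c26) ((m m0 h0).solL_cons ((m m0 h0).sol_cyc [] (Bc := [1315]) (T := [1315]) rfl (Model.via _ (mR m0 h0) (fun R => cycB R (subst [[41]] []) [1315]) c24) (Model.via _ (mR m0 h0) (fun R => cycB R (subst [[41]] []) [1315]) c25) (zn6 m0 h0 hb hc)) (m m0 h0).solL_nil)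
theorem zn4 : (m m0 h0).Sol [[41]] zCg [1937, 1713, 1711, 723] [1937, 1713, 1711, 723] := (m m0 h0).sol_free (zbdd m0 h0 hb hc) (zcm m0 h0 hb hc) (zot m0 h0 hb hc) ((m m0 h0).excl_mov (zbdd m0 h0 hb hc) [0] (Model.via _ (mR m0 h0) (fun R => exclB R (subst [[41]] [0]) 520 zD4) c28)) (Model.via _ (mR m0 h0) (fun R => freeB R zOT [[41]] zCg [0, 1, 2, 3] [1937, 1713, 1711, 723] [1937, 1713, 1711, 723] [] 520 zD4 [([], 520, 1)] [[10], [11], [12]] [0, 2, 0] zc29) c29) ((m m0 h0).solL_cons ((m m0 h0).sol_cyc [] (Bc := [520]) (T := [520]) rfl (Model.via _ (mR m0 h0) (fun R => cycB R (subst [[41]] []) [520]) c23) (Model.via _ (mR m0 h0) (fun R => cycB R (subst [[41]] []) [520]) c27) (zn5 m0 h0 hb hc)) (m m0 h0).solL_nil)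
theorem zn3 : (m m0 h0).Sol [[41]] zCg [1713, 1711, 723] [1713, 1711, 723] := (m m0 h0).sol_free (zbdd m0 h0 hb hc) (zcm m0 h0 hb hc) (zot m0 h0 hb hc) ((m m0 h0).excl_mov (zbdd m0 h0 hb hc) [0] (Model.via _ (mR m0 h0) (fun R => exclB R (subst [[41]] [0]) 1937 zD3) c31)) (Model.via _ (mR m0 h0) (fun R => freeB R zOT [[41]] zCg [0, 1, 2] [1713, 1711, 723] [1713, 1711, 723] [] 1937 zD3 [([], 1937, 2)] [[8], [9]] [0, 1, 0, 1, 0, 1, 0, 1, 0] zc32) c32) ((m m0 h0).solL_cons ((m m0 h0).sol_cyc [] (Bc := [1937]) (T := [1937]) rfl (Model.via _ (mR m0 h0) (fun R => cycB R (subst [[41]] []) [1937]) c22) (Model.via _ (mR m0 h0) (fun R => cycB R (subst [[41]] []) [1937]) c30) (zn4 m0 h0 hb hc)) (m m0 h0).solL_nil)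
theorem zn2 : (m m0 h0).Sol [[41]] zCg [1711, 723] [1711, 723] := (m m0 h0).sol_free (zbdd m0 h0 hb hc) (zcm m0 h0 hb hc) (zot m0 h0 hb hc) ((m m0 h0).excl_mov (zbdd m0 h0 hb hc) [0] (Model.via _ (mR m0 h0) (fun R => exclB R (subst [[41]] [0]) 1713 zD2) c34)) (Model.via _ (mR m0 h0) (fun R => freeB R zOT [[41]] zCg [0, 1] [1711, 723] [1711, 723] [] 1713 zD2 [([], 1713, 3)] [[6], [7]] [0, 1, 0, 1, 0, 1, 0, 0, 1, 1, 0] zc35) c35) ((m m0 h0).solL_cons ((m m0 h0).sol_cyc [] (Bc := [1713]) (T := [1713]) rfl (Model.via _ (mR m0 h0) (fun R => cycB R (subst [[41]] []) [1713]) c21) (Model.via _ (mR m0 h0) (fun R => cycB R (subst [[41]] []) [1713]) c33) (zn3 m0 h0 hb hc)) (m m0 h0).solL_nil)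
theorem zn1 : (m m0 h0).Sol [[41]] zCg [723] [723] := (m m0 h0).sol_free (zbdd m0 h0 hb hc) (zcm m0 h0 hb hc) (zot m0 h0 hb hc) ((m m0 h0).excl_mov (zbdd m0 h0 hb hc) [0] (Model.via _ (mR m0 h0) (fun R => exclB R (subst [[41]] [0]) 1711 zD1) c37)) (Model.via _ (mR m0 h0) (fun R => freeB R zOT [[41]] zCg [0] [723] [723] [] 1711 zD1 [([], 1711, 4)] [[4], [5]] [0, 1, 0, 1, 0, 1, 0, 1, 0, 1, 0, 1, 0] zc38) c38) ((m m0 h0).solL_cons ((m m0 h0).sol_cyc [] (Bc := [1711]) (T := [1711]) rfl (Model.via _ (mR m0 h0) (fun R => cycB R (subst [[41]] []) [1711]) c20) (Model.via _ (mR m0 h0) (fun R => cycB R (subst [[41]] []) [1711]) c36) (zn2 m0 h0 hb hc)) (m m0 h0).solL_nil)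
theorem zn8 : (m m0 h0).Sol [[41]] zCg [1711, 723] [1125, 110] := (m m0 h0).sol_free (zbdd m0 h0 hb hc) (zcm m0 h0 hb hc) (zot m0 h0 hb hc) ((m m0 h0).excl_mov (zbdd m0 h0 hb hc) [0] (Model.via _ (mR m0 h0) (fun R => exclB R (subst [[41]] [0]) 1713 zD2) c34)) (Model.via _ (mR m0 h0) (fun R => freeB R zOT [[41]] zCg [0, 1] [1711, 723] [1125, 110] [44, 44, 44, 44, 45, 45, 44, 45, 44, 43, 42, 42, 43, 43, 42, 42, 42, 42, 43] 1713 zD2 [([], 1713, 3)] [[16], [17], [18]] [] zc40) c40) (m m0 h0).solL_nil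
theorem zn7 : (m m0 h0).Sol [[41]] zCg [723] [110] := (m m0 h0).sol_free (zbdd m0 h0 hb hc) (zcm m0 h0 hb hc) (zot m0 h0 hb hc) ((m m0 h0).excl_mov (zbdd m0 h0 hb hc) [0] (Model.via _ (mR m0 h0) (fun R => exclB R (subst [[41]] [0]) 1711 zD1) c37)) (Model.via _ (mR m0 h0) (fun R => freeB R zOT [[41]] zCg [0] [723] [110] [43, 42, 42, 43, 43, 42, 42, 42, 42, 43] 1711 zD1 [([], 1711, 4)] [[14], [15]] [0, 1, 0, 1, 0, 1, 0, 0, 0] zc42) c42) ((m m0 h0).solL_cons ((m m0 h0).sol_cyc [] (Bc := [1711]) (T := [1125]) rfl (Model.via _ (mR m0 h0) (fun R => cycB R (subst [[41]] []) [1711]) c20) (Model.via _ (mR m0 h0) (fun R => cycB R (subst [[41]] []) [1125]) c41) (zn8 m0 h0 hb hc)) (m m0 h0).solL_nil)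
theorem zn0 : (m m0 h0).Sol [[41]] zCg [] [] := (m m0 h0).sol_free (zbdd m0 h0 hb hc) (zcm m0 h0 hb hc) (zot m0 h0 hb hc) ((m m0 h0).excl_mov (zbdd m0 h0 hb hc) [0] (Model.via _ (mR m0 h0) (fun R => exclB R (subst [[41]] [0]) 723 zD0) c44)) (Model.via _ (mR m0 h0) (fun R => freeB R zOT [[41]] zCg [] [] [] [] 723 zD0 [([], 723, 5)] [[2], [3]] [0, 1, 0, 1, 0, 1, 0, 1, 0, 1, 0, 1, 0, 0] zc45) c45) ((m m0 h0).solL_cons ((m m0 h0).sol_cyc [] (Bc := [723]) (T := [110]) rfl (Model.via _ (mR m0 h0) (fun R => cycB R (subst [[41]] []) [723]) c19) (Model.via _ (mR m0 h0) (fun R => cycB R (subst [[41]] []) [110]) c43) (zn7 m0 h0 hb hc)) ((m m0 h0).solL_cons ((m m0 h0).sol_cyc [] (Bc := [723]) (T := [723]) rfl (Model.via _ (mR m0 h0) (fun R => cycB R (subst [[41]] []) [723]) c19) (Model.via _ (mR m0 h0) (fun R => cycB R (subst [[41]] []) [723]) c39) (zn1 m0 h0 hb hc)) (m m0 h0).solL_nil))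
theorem zsol : (m m0 h0).Sol [[41]] zCg [] [] := zn0 m0 h0 hb hc
theorem xs : XS2 (gl (m m0 h0).g ([33, 34, 35, 36, 37, 38, 39, 40] ++ [41])) ((m m0 h0).g 41) := (m m0 h0).xs2 (qE m0 h0 hb hc) (all_take_done (all_take_step (all_take_zero _ (xsE [33, 34, 35, 36, 37, 38, 39, 40] 41 qT)) ((m m0 h0).pairs_of (base m0 h0 hb hc) (Model.via _ (mR m0 h0) (fun R => pairsB R [1625, 1409, 570, 569, 1, 0] (((xsE [33, 34, 35, 36, 37, 38, 39, 40] 41 qT).drop 0).take 73)) c53))) (by decide +kernel))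
  (Model.via _ (mR m0 h0) (fun R => (pcOK ([33, 34, 35, 36, 37, 38, 39, 40] ++ [41]) qW && [33, 34, 35, 36, 37, 38, 39, 40].contains 33 && ne2 R 0 [41] [] && ne2 R 0 [33] [] && ne2 R 0 [33] [41])) c54) (Model.via _ (mR m0 h0) (fun R => ctrB R 0 [33, 34, 35, 36, 37, 38, 39, 40] 41 (nfW 2 ([33, 34, 35, 36, 37, 38, 39, 40] ++ [41]))) c55)
theorem str : ∃ t : G, orderOf t = 2 ∧ ∃ Q K : Subgroup G, XS2 Q t ∧ Subgroup.centralizer {t} = Q ⊔ K ∧ K ≤ Subgroup.normalizer Q ∧ Nonempty (PG 15 H0.MS62.B ≃* K) ∧ Nat.card Q = 512 :=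
  ⟨_, (xs m0 h0 hb hc).oz, _, gl (m m0 h0).g [18, 19, 20, 21, 22, 23, 24, 25, 26, 27, 28, 29, 30, 31, 32], xs m0 h0 hb hc, cent_sup ((m m0 h0).cent_le (zsol m0 h0 hb hc)) (by decide +kernel) (all_take_done (all_take_step (all_take_zero _ (cmE 41 ((([33, 34, 35, 36, 37, 38, 39, 40] ++ [41]) ++ [18, 19, 20, 21, 22, 23, 24, 25, 26, 27, 28, 29, 30, 31, 32]).map fun x => [x]))) ((m m0 h0).pairs_of (base m0 h0 hb hc) (Model.via _ (mR m0 h0) (fun R => pairsB R [1625, 1409, 570, 569, 1, 0] (((cmE 41 ((([33, 34, 35, 36, 37, 38, 39, 40] ++ [41]) ++ [18, 19, 20, 21, 22, 23, 24, 25, 26, 27, 28, 29, 30, 31, 32]).map fun x => [x])).drop 0).take 24)) c56))) (by decide +kernel)),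
    gl_nrm (T := qN) (all_take_done (all_take_step (all_take_zero _ (nrmE ([33, 34, 35, 36, 37, 38, 39, 40] ++ [41]) [18, 19, 20, 21, 22, 23, 24, 25, 26, 27, 28, 29, 30, 31, 32] qN)) ((m m0 h0).pairs_of (base m0 h0 hb hc) (Model.via _ (mR m0 h0) (fun R => pairsB R [1625, 1409, 570, 569, 1, 0] (((nrmE ([33, 34, 35, 36, 37, 38, 39, 40] ++ [41]) [18, 19, 20, 21, 22, 23, 24, 25, 26, 27, 28, 29, 30, 31, 32] qN).drop 0).take 135)) c57))) (by decide +kernel)) (by decide +kernel), gl_sh (m m0 h0).g (off := 18) (k := 15) (ks := [18, 19, 20, 21, 22, 23, 24, 25, 26, 27, 28, 29, 30, 31, 32]) (by decide +kernel) ▸ K_iso m0 h0 hb hc,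
    pcn_card two_pos (qE m0 h0 hb hc) (by decide +kernel) (qlow m0 h0)⟩
end H0.ECo2Z
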